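import Cfsg.Agent.Lib.Conway.Co2S.Defs

/-!
# The second Conway group: trees of the orbits of a point stabiliser
-/

set_option autoImplicit false

namespace Cfsg.Agent.Lib.Conway.C2S

open Cfsg Cfsg.Agent.Lib.Compute Cfsg.Agent.Lib.KnownSimple.PE Cfsg.Agent.Lib.KnownSimple.Leech
open Cfsg.Agent.Lib.KnownSimple.Leech.Co2 (N)

set_option maxRecDepth 100000 in
theorem tr0c0 : chunk ((LF 0 mask0).treeAt N) 2048 0 = true := by decide +kernel
set_option maxRecDepth 100000 in
theorem tr0c1 : chunk ((LF 0 mask0).treeAt N) 2048 1 = true := by decide +kernel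
set_option maxRecDepth 100000 in
theorem tr0c2 : chunk ((LF 0 mask0).treeAt N) 2048 2 = true := by decide +kernel
set_option maxRecDepth 100000 in
theorem tr0c3 : chunk ((LF 0 mask0).treeAt N) 2048 3 = true := by decide +kernel
set_option maxRecDepth 100000 in
theorem tr0c4 : chunk ((LF 0 mask0).treeAt N) 2048 4 = true := by decide +kernel
set_option maxRecDepth 100000 in
theorem tr0c5 : chunk ((LF 0 mask0).treeAt N) 2048 5 = true := by decide +kernel
set_option maxRecDepth 100000 in
theorem tr0c6 : chunk ((LF 0 mask0).treeAt N) 2048 6 = true := by decide +kernel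
set_option maxRecDepth 100000 in
theorem tr0c7 : chunk ((LF 0 mask0).treeAt N) 2048 7 = true := by decide +kernel
set_option maxRecDepth 100000 in
theorem tr0c8 : chunk ((LF 0 mask0).treeAt N) 2048 8 = true := by decide +kernel
set_option maxRecDepth 100000 in
theorem tr0c9 : chunk ((LF 0 mask0).treeAt N) 2048 9 = true := by decide +kernel
set_option maxRecDepth 100000 in
theorem tr0c10 : chunk ((LF 0 mask0).treeAt N) 2048 10 = true := by decide +kernel
set_option maxRecDepth 100000 in
theorem tr0c11 : chunk ((LF 0 mask0).treeAt N) 2048 11 = true := by decide +kernel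
set_option maxRecDepth 100000 in
theorem tr0c12 : chunk ((LF 0 mask0).treeAt N) 2048 12 = true := by decide +kernel
set_option maxRecDepth 100000 in
theorem tr0c13 : chunk ((LF 0 mask0).treeAt N) 2048 13 = true := by decide +kernel
set_option maxRecDepth 100000 in
theorem tr0c14 : chunk ((LF 0 mask0).treeAt N) 2048 14 = true := by decide +kernel
set_option maxRecDepth 100000 in
theorem tr0c15 : chunk ((LF 0 mask0).treeAt N) 2048 15 = true := by decide +kernel
set_option maxRecDepth 100000 in
theorem tr0c16 : chunk ((LF 0 mask0).treeAt N) 2048 16 = true := by decide +kernel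
set_option maxRecDepth 100000 in
theorem tr0c17 : chunk ((LF 0 mask0).treeAt N) 2048 17 = true := by decide +kernel
set_option maxRecDepth 100000 in
theorem tr0c18 : chunk ((LF 0 mask0).treeAt N) 2048 18 = true := by decide +kernel
set_option maxRecDepth 100000 in
theorem tr0c19 : chunk ((LF 0 mask0).treeAt N) 2048 19 = true := by decide +kernel
set_option maxRecDepth 100000 in
theorem tr0c20 : chunk ((LF 0 mask0).treeAt N) 2048 20 = true := by decide +kernel
set_option maxRecDepth 100000 in
theorem tr0c21 : chunk ((LF 0 mask0).treeAt N) 2048 21 = true := by decide +kernel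
set_option maxRecDepth 100000 in
theorem tr0c22 : chunk ((LF 0 mask0).treeAt N) 2048 22 = true := by decide +kernel

theorem tree0 : (LF 0 mask0).treeOK N = true := by
  have h : allBelow ((LF 0 mask0).treeAt N) (23 * 2048) = true := allBelow_of_chunks (fun c hc => by
    interval_cases c
    · exact tr0c0
    · exact tr0c1
    · exact tr0c2
    · exact tr0c3
    · exact tr0c4
    · exact tr0c5
    · exact tr0c6
    · exact tr0c7
    · exact tr0c8
    · exact tr0c9
    · exact tr0c10
    · exact tr0c11
    · exact tr0c12
    · exact tr0c13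
    · exact tr0c14
    · exact tr0c15
    · exact tr0c16
    · exact tr0c17
    · exact tr0c18
    · exact tr0c19
    · exact tr0c20
    · exact tr0c21
    · exact tr0c22
  )
  exact h

end Cfsg.Agent.Lib.Conway.C2S
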