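import Cfsg.Agent.Lib.Conway.Co2S.Defs

/-!
# The second Conway group: trees of the orbits of a point stabiliser
-/

set_option autoImplicit false

namespace Cfsg.Agent.Lib.Conway.C2S

open Cfsg Cfsg.Agent.Lib.Compute Cfsg.Agent.Lib.KnownSimple.PE Cfsg.Agent.Lib.KnownSimple.Leech
open Cfsg.Agent.Lib.KnownSimple.Leech.Co2 (N)

set_option maxRecDepth 100000 in
theorem tr1c0 : chunk ((LF 1023 mask1).treeAt N) 2048 0 = true := by decide +kernel
set_option maxRecDepth 100000 in
theorem tr1c1 : chunk ((LF 1023 mask1).treeAt N) 2048 1 = true := by decide +kernel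
set_option maxRecDepth 100000 in
theorem tr1c2 : chunk ((LF 1023 mask1).treeAt N) 2048 2 = true := by decide +kernel
set_option maxRecDepth 100000 in
theorem tr1c3 : chunk ((LF 1023 mask1).treeAt N) 2048 3 = true := by decide +kernel
set_option maxRecDepth 100000 in
theorem tr1c4 : chunk ((LF 1023 mask1).treeAt N) 2048 4 = true := by decide +kernel
set_option maxRecDepth 100000 in
theorem tr1c5 : chunk ((LF 1023 mask1).treeAt N) 2048 5 = true := by decide +kernel
set_option maxRecDepth 100000 in
theorem tr1c6 : chunk ((LF 1023 mask1).treeAt N) 2048 6 = true := by decide +kernel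
set_option maxRecDepth 100000 in
theorem tr1c7 : chunk ((LF 1023 mask1).treeAt N) 2048 7 = true := by decide +kernel
set_option maxRecDepth 100000 in
theorem tr1c8 : chunk ((LF 1023 mask1).treeAt N) 2048 8 = true := by decide +kernel
set_option maxRecDepth 100000 in
theorem tr1c9 : chunk ((LF 1023 mask1).treeAt N) 2048 9 = true := by decide +kernel
set_option maxRecDepth 100000 in
theorem tr1c10 : chunk ((LF 1023 mask1).treeAt N) 2048 10 = true := by decide +kernel
set_option maxRecDepth 100000 in
theorem tr1c11 : chunk ((LF 1023 mask1).treeAt N) 2048 11 = true := by decide +kernel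
set_option maxRecDepth 100000 in
theorem tr1c12 : chunk ((LF 1023 mask1).treeAt N) 2048 12 = true := by decide +kernel
set_option maxRecDepth 100000 in
theorem tr1c13 : chunk ((LF 1023 mask1).treeAt N) 2048 13 = true := by decide +kernel
set_option maxRecDepth 100000 in
theorem tr1c14 : chunk ((LF 1023 mask1).treeAt N) 2048 14 = true := by decide +kernel
set_option maxRecDepth 100000 in
theorem tr1c15 : chunk ((LF 1023 mask1).treeAt N) 2048 15 = true := by decide +kernel
set_option maxRecDepth 100000 in
theorem tr1c16 : chunk ((LF 1023 mask1).treeAt N) 2048 16 = true := by decide +kernel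
set_option maxRecDepth 100000 in
theorem tr1c17 : chunk ((LF 1023 mask1).treeAt N) 2048 17 = true := by decide +kernel
set_option maxRecDepth 100000 in
theorem tr1c18 : chunk ((LF 1023 mask1).treeAt N) 2048 18 = true := by decide +kernel
set_option maxRecDepth 100000 in
theorem tr1c19 : chunk ((LF 1023 mask1).treeAt N) 2048 19 = true := by decide +kernel
set_option maxRecDepth 100000 in
theorem tr1c20 : chunk ((LF 1023 mask1).treeAt N) 2048 20 = true := by decide +kernel
set_option maxRecDepth 100000 in
theorem tr1c21 : chunk ((LF 1023 mask1).treeAt N) 2048 21 = true := by decide +kernel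
set_option maxRecDepth 100000 in
theorem tr1c22 : chunk ((LF 1023 mask1).treeAt N) 2048 22 = true := by decide +kernel

theorem tree1 : (LF 1023 mask1).treeOK N = true := by
  have h : allBelow ((LF 1023 mask1).treeAt N) (23 * 2048) = true := allBelow_of_chunks (fun c hc => by
    interval_cases c
    · exact tr1c0
    · exact tr1c1
    · exact tr1c2
    · exact tr1c3
    · exact tr1c4
    · exact tr1c5
    · exact tr1c6
    · exact tr1c7
    · exact tr1c8
    · exact tr1c9
    · exact tr1c10
    · exact tr1c11
    · exact tr1c12
    · exact tr1c13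
    · exact tr1c14
    · exact tr1c15
    · exact tr1c16
    · exact tr1c17
    · exact tr1c18
    · exact tr1c19
    · exact tr1c20
    · exact tr1c21
    · exact tr1c22
  )
  exact h

end Cfsg.Agent.Lib.Conway.C2S
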