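import Cfsg.Agent.Lib.Conway.Co2S.Defs

/-!
# The second Conway group: trees of the orbits of a point stabiliser
-/

set_option autoImplicit false

namespace Cfsg.Agent.Lib.Conway.C2S

open Cfsg Cfsg.Agent.Lib.Compute Cfsg.Agent.Lib.KnownSimple.PE Cfsg.Agent.Lib.KnownSimple.Leech
open Cfsg.Agent.Lib.KnownSimple.Leech.Co2 (N)

set_option maxRecDepth 100000 in
theorem tr4c0 : chunk ((LF 31 mask4).treeAt N) 2048 0 = true := by decide +kernel
set_option maxRecDepth 100000 in
theorem tr4c1 : chunk ((LF 31 mask4).treeAt N) 2048 1 = true := by decide +kernel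
set_option maxRecDepth 100000 in
theorem tr4c2 : chunk ((LF 31 mask4).treeAt N) 2048 2 = true := by decide +kernel
set_option maxRecDepth 100000 in
theorem tr4c3 : chunk ((LF 31 mask4).treeAt N) 2048 3 = true := by decide +kernel
set_option maxRecDepth 100000 in
theorem tr4c4 : chunk ((LF 31 mask4).treeAt N) 2048 4 = true := by decide +kernel
set_option maxRecDepth 100000 in
theorem tr4c5 : chunk ((LF 31 mask4).treeAt N) 2048 5 = true := by decide +kernel
set_option maxRecDepth 100000 in
theorem tr4c6 : chunk ((LF 31 mask4).treeAt N) 2048 6 = true := by decide +kernel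
set_option maxRecDepth 100000 in
theorem tr4c7 : chunk ((LF 31 mask4).treeAt N) 2048 7 = true := by decide +kernel
set_option maxRecDepth 100000 in
theorem tr4c8 : chunk ((LF 31 mask4).treeAt N) 2048 8 = true := by decide +kernel
set_option maxRecDepth 100000 in
theorem tr4c9 : chunk ((LF 31 mask4).treeAt N) 2048 9 = true := by decide +kernel
set_option maxRecDepth 100000 in
theorem tr4c10 : chunk ((LF 31 mask4).treeAt N) 2048 10 = true := by decide +kernel
set_option maxRecDepth 100000 in
theorem tr4c11 : chunk ((LF 31 mask4).treeAt N) 2048 11 = true := by decide +kernel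
set_option maxRecDepth 100000 in
theorem tr4c12 : chunk ((LF 31 mask4).treeAt N) 2048 12 = true := by decide +kernel
set_option maxRecDepth 100000 in
theorem tr4c13 : chunk ((LF 31 mask4).treeAt N) 2048 13 = true := by decide +kernel
set_option maxRecDepth 100000 in
theorem tr4c14 : chunk ((LF 31 mask4).treeAt N) 2048 14 = true := by decide +kernel
set_option maxRecDepth 100000 in
theorem tr4c15 : chunk ((LF 31 mask4).treeAt N) 2048 15 = true := by decide +kernel
set_option maxRecDepth 100000 in
theorem tr4c16 : chunk ((LF 31 mask4).treeAt N) 2048 16 = true := by decide +kernel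
set_option maxRecDepth 100000 in
theorem tr4c17 : chunk ((LF 31 mask4).treeAt N) 2048 17 = true := by decide +kernel
set_option maxRecDepth 100000 in
theorem tr4c18 : chunk ((LF 31 mask4).treeAt N) 2048 18 = true := by decide +kernel
set_option maxRecDepth 100000 in
theorem tr4c19 : chunk ((LF 31 mask4).treeAt N) 2048 19 = true := by decide +kernel
set_option maxRecDepth 100000 in
theorem tr4c20 : chunk ((LF 31 mask4).treeAt N) 2048 20 = true := by decide +kernel
set_option maxRecDepth 100000 in
theorem tr4c21 : chunk ((LF 31 mask4).treeAt N) 2048 21 = true := by decide +kernel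
set_option maxRecDepth 100000 in
theorem tr4c22 : chunk ((LF 31 mask4).treeAt N) 2048 22 = true := by decide +kernel

theorem tree4 : (LF 31 mask4).treeOK N = true := by
  have h : allBelow ((LF 31 mask4).treeAt N) (23 * 2048) = true := allBelow_of_chunks (fun c hc => by
    interval_cases c
    · exact tr4c0
    · exact tr4c1
    · exact tr4c2
    · exact tr4c3
    · exact tr4c4
    · exact tr4c5
    · exact tr4c6
    · exact tr4c7
    · exact tr4c8
    · exact tr4c9
    · exact tr4c10
    · exact tr4c11
    · exact tr4c12
    · exact tr4c13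
    · exact tr4c14
    · exact tr4c15
    · exact tr4c16
    · exact tr4c17
    · exact tr4c18
    · exact tr4c19
    · exact tr4c20
    · exact tr4c21
    · exact tr4c22
  )
  exact h

end Cfsg.Agent.Lib.Conway.C2S
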